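import Groth.Agent.Ega3B.Devissage
import Groth.Agent.Fga.DimLt
import Groth.Agent.Sga67.KTrBasic
import Groth.Agent.CycB.ClosSheaf
import Mathlib.RingTheory.Length

/-!
Additive functions on coherent modules, with values in an arbitrary abelian group: on modules supported in the
closure of a point `y` they are the length of the stalk at `y` times a constant, modulo modules with zero stalk at `y`.
-/

set_option autoImplicit false
universe u
open CategoryTheory CategoryTheory.Limits AlgebraicGeometry Opposite TopologicalSpace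

namespace K233.LenK0

open Groth.Agent Groth.Agent.Ega3B.Devissage Groth.Agent.CycB.StalkExact Groth.Agent.Ega3B.DevHom
  Groth.Agent.Fdesc.QCohStalk

variable {X : Scheme.{u}}

/-- Length of the stalk of a module at a point. -/
noncomputable abbrev len (F : X.Modules) (y : X) : ℕ∞ :=
  Module.length (X.presheaf.stalk y) (F.presheaf.stalk y)

theorem len_shortExact {S : ShortComplex X.Modules} (hS : S.ShortExact) (y : X) :
    len S.X₂ y = len S.X₁ y + len S.X₃ y := by
  have := hS.mono_f
  have := hS.epi_g
  exact Module.length_eq_add_of_exact (stalkLin S.f y) (stalkLin S.g y) (stalkLin_injective S.f y)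
    (stalkLin_surjective S.g y) (stalkLin_exact S hS.exact y)

theorem len_eq_zero {F : X.Modules} {y : X} (h : y ∉ CohB1.support F) : len F y = 0 := by
  have h1 : Subsingleton (F.presheaf.stalk y) := not_not.mp h
  exact Module.length_eq_zero

/-- A group-valued function on modules, additive on short exact sequences of coherent modules. -/
def IsAddG {G : Type*} [AddCommGroup G] (φ : X.Modules → G) : Prop :=
  ∀ S : ShortComplex X.Modules, S.ShortExact → Coh.IsCoh S.X₁ → Coh.IsCoh S.X₂ → Coh.IsCoh S.X₃ →
    φ S.X₂ = φ S.X₁ + φ S.X₃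

/-- **Multiplicity formula** with values in an abelian group. -/
theorem length_formula [IsNoetherian X] {G : Type*} [AddCommGroup G] (φ : X.Modules → G) (hφ : IsAddG φ)
    (y : X)
    (h0 : ∀ G : X.Modules, Coh.IsCoh G → CohB1.support G ⊆ closure {y} → y ∉ CohB1.support G → φ G = 0)
    (G₀ : X.Modules) (hG₀ : Coh.IsCoh G₀) (hGs : CohB1.support G₀ ⊆ closure {y})
    (hs : len G₀ y = 1)
    (F : X.Modules) (hF : Coh.IsCoh F) (hFs : CohB1.support F ⊆ closure {y}) :
    len F y ≠ ⊤ ∧ φ F = (len F y).toNat • φ G₀ := by
  refine one_step (closure {y}) (fun F => len F y ≠ ⊤ ∧ φ F = (len F y).toNat • φ G₀) ?_ y ?_ ?_ G₀ hG₀ hGs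
    ?_ (Module.length_eq_one_iff.mp hs) F hF hFs
  · intro S hS h1 h2 h3 _
    have hadd := hφ S hS h1 h2 h3
    have hlen := len_shortExact hS y
    refine ⟨?_, ?_, ?_⟩
    · rintro ⟨t1, e1⟩ ⟨t2, e2⟩
      have t3 : len S.X₃ y ≠ ⊤ := by
        rintro h
        exact t2 (by rw [hlen, h, add_top])
      refine ⟨t3, ?_⟩
      rw [hlen, ENat.toNat_add t1 t3, add_smul] at e2
      rw [e1, e2] at hadd
      exact (add_left_cancel hadd).symm
    · rintro ⟨t1, e1⟩ ⟨t3, e3⟩
      refine ⟨by rw [hlen]; simpa using ⟨t1, t3⟩, ?_⟩
      rw [hlen, ENat.toNat_add t1 t3, hadd, e1, e3, add_smul]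
    · rintro ⟨t2, e2⟩ ⟨t3, e3⟩
      have t1 : len S.X₁ y ≠ ⊤ := by
        rintro h
        exact t2 (by rw [hlen, h, top_add])
      refine ⟨t1, ?_⟩
      rw [hlen, ENat.toNat_add t1 t3, add_smul] at e2
      rw [e3, e2] at hadd
      exact (add_right_cancel hadd).symm
  · intro z hz hzT
    exact (hz.antisymm (specializes_iff_mem_closure.mpr hzT)).eq
  · intro M hM hMs hy
    rw [len_eq_zero hy]
    exact ⟨by simp, by simpa using h0 M hM hMs hy⟩
  · rw [hs]
    simp

/-- The support of the structure sheaf of the closure of a point. -/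
theorem support_closureStructureSheaf (y : X) :
    CohB1.support (Cyc.closureStructureSheaf y) = closure {y} := by
  ext x
  change (¬ Subsingleton ((Cyc.closureStructureSheaf y).presheaf.stalk x)) ↔ _
  rw [not_subsingleton_iff_nontrivial, CycB.ClosSheaf.nontrivial_stalk_iff, specializes_iff_mem_closure]

/-- A coherent module supported in the closure of `y`, with zero stalk at `y`, has support of smaller dimension. -/
theorem dim_support_lt {y : X} {r : ℕ} (hr : topologicalKrullDim (closure {y} : Set X) ≤ r)
    {G : X.Modules} (hG : Coh.IsCoh G) (hs : CohB1.support G ⊆ closure {y}) (hy : y ∉ CohB1.support G) :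
    topologicalKrullDim (CohB1.support G) < r := by
  refine Fga.DimLt.topologicalKrullDim_lt isIrreducible_singleton.closure (isClosed_support hG) hs ?_ ?_
  · rintro h
    exact hy (h ▸ subset_closure rfl)
  · refine lt_of_le_of_lt hr ?_
    exact_mod_cast Nat.lt_succ_self r

end K233.LenK0
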