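import Groth.Agent.Cohder.KZPerf

/-!
The class in `K₀` (of objects represented by bounded complexes with terms in `V`) of a bounded complex with terms
in `V` is the alternating sum of the classes of its terms.
-/

set_option autoImplicit false
universe w v u
open CategoryTheory CategoryTheory.Limits ZeroObject

namespace K233.ClTrSum

open Groth.Agent.Cohder.KZBasic Groth.Agent.Cohder.KZPerf

open Pretriangulated

variable {A : Type u} [Category.{v} A] [Abelian A] [HasDerivedCategory.{w} A] {V : ObjectProperty A}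

/-- Additivity of the class of objects of `V` placed in degree `0`. -/
lemma clTr_single_shortExact (hV : VClosed V) (S : ShortComplex A) (hS : S.ShortExact) (h₁ : V S.X₁)
    (h₂ : V S.X₂) (h₃ : V S.X₃) :
    KZero.clTr (RepV V) ((DerivedCategory.singleFunctor A 0).obj S.X₂) =
      KZero.clTr (RepV V) ((DerivedCategory.singleFunctor A 0).obj S.X₁) +
        KZero.clTr (RepV V) ((DerivedCategory.singleFunctor A 0).obj S.X₃) :=
  clTr_triangle (RepV V) _ hS.singleTriangle_distinguished (repV_single hV h₁ 0)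
      (repV_single hV h₂ 0) (repV_single hV h₃ 0)

/-- Auxiliary induction for `clTr_Q_eq_sum`. -/
lemma clTr_Q_eq_sum_aux (hV : VClosed V) (k : ℕ) : ∀ (a b : ℤ) (E : CochainComplex A ℤ),
    (∀ i, V (E.X i)) → (∀ i : ℤ, i < a ∨ b < i → IsZero (E.X i)) → b - a < k →
    KZero.clTr (RepV V) (DerivedCategory.Q.obj E) = ∑ i ∈ Finset.Icc a b,
      i.negOnePow • KZero.clTr (RepV V) ((DerivedCategory.singleFunctor A 0).obj (E.X i)) := by
  induction k with
  | zero =>
    intro a b E hE hab hk
    have : IsZero E := by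
      rw [IsZero.iff_id_eq_zero]
      ext i
      exact (hab i (by simp at hk; lia)).eq_of_src _ _
    rw [clTr_zero _ (DerivedCategory.Q.map_isZero this), Finset.Icc_eq_empty (by simp at hk; lia),
      Finset.sum_empty]
  | succ k ih =>
    intro a b E hE hab hk
    by_cases hlt : b < a
    · have : IsZero E := by
        rw [IsZero.iff_id_eq_zero]
        ext i
        exact (hab i (by lia)).eq_of_src _ _
      rw [clTr_zero _ (DerivedCategory.Q.map_isZero this), Finset.Icc_eq_empty (by lia),
        Finset.sum_empty]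
    obtain ⟨S, hS, h₁, h₂, h₃, h₄⟩ := exists_remove_top hV E hE a b hab
    subst h₂
    have hX₁ : RepV V (DerivedCategory.Q.obj S.X₁) := by
      rw [h₁]
      exact ⟨_, SP.single hV (hE b) b, ⟨Iso.refl _⟩⟩
    have e := clTr_triangle (RepV V) _ (DerivedCategory.triangleOfSES_distinguished hS)
      hX₁
      ⟨_, ⟨⟨a, b, hab⟩, hE⟩, ⟨Iso.refl _⟩⟩
      ⟨_, ⟨⟨a, b - 1, h₄⟩, h₃⟩, ⟨Iso.refl _⟩⟩
    change KZero.clTr (RepV V) (DerivedCategory.Q.obj S.X₂) =
      KZero.clTr (RepV V) (DerivedCategory.Q.obj S.X₁) +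
        KZero.clTr (RepV V) (DerivedCategory.Q.obj S.X₃) at e
    rw [e, ih a (b - 1) _ h₃ h₄ (by push_cast at hk; lia)]
    have e₁ : KZero.clTr (RepV V) (DerivedCategory.Q.obj S.X₁) =
        b.negOnePow • KZero.clTr (RepV V) ((DerivedCategory.singleFunctor A 0).obj (S.X₂.X b)) := by
      rw [h₁]
      exact clTr_single hV b (hE b)
    have e₂ : Finset.Icc a b = insert b (Finset.Icc a (b - 1)) := by
      ext i
      simp only [Finset.mem_Icc, Finset.mem_insert]
      lia
    rw [e₁, e₂, Finset.sum_insert (by simp)]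
    congr 1
    refine Finset.sum_congr rfl fun i hi => ?_
    rw [Finset.mem_Icc] at hi
    congr 1
    have hz : IsZero (S.X₁.X i) := by
      rw [h₁]
      exact HomologicalComplex.isZero_single_obj_X _ _ _ _ (by lia)
    have := clTr_single_shortExact hV _
      (hS.map_of_exact (HomologicalComplex.eval A (ComplexShape.up ℤ) i))
      (hV.zero _ hz) (hE i) (h₃ i)
    change KZero.clTr (RepV V) ((DerivedCategory.singleFunctor A 0).obj (S.X₂.X i)) =
      KZero.clTr (RepV V) ((DerivedCategory.singleFunctor A 0).obj (S.X₁.X i)) +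
        KZero.clTr (RepV V) ((DerivedCategory.singleFunctor A 0).obj (S.X₃.X i)) at this
    rw [this, clTr_zero (RepV V) ((DerivedCategory.singleFunctor A 0).map_isZero hz), zero_add]

/-- The class of a bounded complex with terms in `V` is the alternating sum of the classes of its terms. -/
theorem clTr_Q_eq_sum (hV : VClosed V) (a b : ℤ) (E : CochainComplex A ℤ)
    (hE : ∀ i, V (E.X i)) (hab : ∀ i : ℤ, i < a ∨ b < i → IsZero (E.X i)) :
    KZero.clTr (RepV V) (DerivedCategory.Q.obj E) = ∑ i ∈ Finset.Icc a b,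
      i.negOnePow • KZero.clTr (RepV V) ((DerivedCategory.singleFunctor A 0).obj (E.X i)) :=
  clTr_Q_eq_sum_aux hV (b - a + 1).toNat a b E hE hab (by lia)

/-- Comparison of `K₀` of "vector bundles" and of "perfect complexes", with the formula for the inverse. -/
theorem exists_equiv_sum (hV : VClosed V) (hroof : Roofs V) (P : ObjectProperty (DerivedCategory A))
    (hP : ∀ K, P K ↔ RepV V K) :
    ∃ φ : KZero.K0sub V ≃+ KZero.K0tr P, (∀ X : A, V X →
      φ (KZero.clSub V X) = KZero.clTr P ((DerivedCategory.singleFunctor A 0).obj X)) ∧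
      ∀ (E : CochainComplex A ℤ) (a b : ℤ), (∀ i, V (E.X i)) →
        (∀ i : ℤ, i < a ∨ b < i → IsZero (E.X i)) →
        φ.symm (KZero.clTr P (DerivedCategory.Q.obj E)) =
          (Finset.Icc a b).sum (fun i => (i.negOnePow : ℤ) • KZero.clSub V (E.X i)) := by
  obtain ⟨φ, hφ⟩ := exists_equiv hV hroof P hP
  obtain rfl : P = RepV V := by
    funext K
    exact propext (hP K)
  refine ⟨φ, hφ, fun E a b hE hab => ?_⟩
  rw [AddEquiv.symm_apply_eq, map_sum, clTr_Q_eq_sum hV a b E hE hab]
  refine Finset.sum_congr rfl fun i _ => ?_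
  rw [map_zsmul, hφ _ (hE i)]
  rfl

end K233.ClTrSum
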