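import Mathlib.RingTheory.Ideal.AssociatedPrime.Finiteness
import Mathlib.RingTheory.Support
import Mathlib.RingTheory.Spectrum.Prime.Topology
import Mathlib.RingTheory.LocalRing.MaximalIdeal.Basic
import Mathlib.Algebra.Category.ModuleCat.Abelian
import Mathlib.Algebra.Homology.ShortComplex.ModuleCat
import Mathlib.CategoryTheory.ObjectProperty.ContainsZero
import Mathlib.CategoryTheory.ObjectProperty.Kernels
import Mathlib.CategoryTheory.ObjectProperty.ClosedUnderIsomorphisms

/-!
Finite modules over a Noetherian local ring supported at the closed point: an object property of `ModuleCat R`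
and its dévissage to the residue field.
-/

set_option autoImplicit false
universe u
open CategoryTheory CategoryTheory.Limits

namespace K233.FinSupp

variable (R : Type u) [CommRing R] [IsLocalRing R]

/-- Finite modules supported at the closed point. -/
abbrev finSupp : ObjectProperty (ModuleCat.{u} R) :=
  fun M => Module.Finite R M ∧ Module.support R M ⊆ {IsLocalRing.closedPoint R}

instance : (finSupp R).IsClosedUnderIsomorphisms where
  of_iso e h := ⟨@Module.Finite.equiv _ _ _ _ _ _ _ _ h.1 e.toLinearEquiv,
    (e.toLinearEquiv.support_eq).symm.subset.trans h.2⟩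

instance : (finSupp R).ContainsZero where
  exists_zero := by
    refine ⟨ModuleCat.of R PUnit.{u + 1}, ModuleCat.isZero_of_subsingleton _, ?_, ?_⟩
    · change Module.Finite R PUnit.{u + 1}
      infer_instance
    · change Module.support R PUnit.{u + 1} ⊆ _
      rw [Module.support_eq_empty]
      exact Set.empty_subset _

variable {R}

lemma finSupp_of_injective [IsNoetherianRing R] {M N : ModuleCat.{u} R} (f : M ⟶ N)
    (hf : Function.Injective f.hom) (hN : finSupp R N) : finSupp R M := by
  have := hN.1
  exact ⟨Module.Finite.of_injective f.hom hf, (Module.support_subset_of_injective f.hom hf).trans hN.2⟩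

lemma finSupp_of_surjective {M N : ModuleCat.{u} R} (f : M ⟶ N)
    (hf : Function.Surjective f.hom) (hM : finSupp R M) : finSupp R N := by
  have := hM.1
  exact ⟨Module.Finite.of_surjective f.hom hf, (Module.support_subset_of_surjective f.hom hf).trans hM.2⟩

instance [IsNoetherianRing R] : (finSupp R).IsClosedUnderKernels where
  kernels_le := by
    rintro K ⟨f, k, hk, hf⟩
    refine finSupp_of_injective k.ι ?_ hf.1
    rw [← ModuleCat.mono_iff_injective]
    exact Fork.IsLimit.mono hk

/-- Dévissage: finite modules supported at the closed point are iterated extensions of the residue field. -/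
theorem induction [IsNoetherianRing R] (T : ModuleCat.{u} R → Prop)
    (hzero : ∀ M : ModuleCat.{u} R, IsZero M → T M)
    (hres : ∀ M : ModuleCat.{u} R, (M ≅ ModuleCat.of R (R ⧸ IsLocalRing.maximalIdeal R)) → T M)
    (hext : ∀ S : ShortComplex (ModuleCat.{u} R), S.ShortExact → finSupp R S.X₁ → finSupp R S.X₂ →
      finSupp R S.X₃ → T S.X₁ → T S.X₃ → T S.X₂)
    (M : ModuleCat.{u} R) (hM : finSupp R M) : T M := by
  have key : Module.support R M ⊆ {IsLocalRing.closedPoint R} → T M := by
    refine IsNoetherianRing.induction_on_isQuotientEquivQuotientPrime (A := R) (M := M) hM.1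
      (motive := fun N _ _ _ => Module.support R N ⊆ {IsLocalRing.closedPoint R} → T (ModuleCat.of R N))
      ?_ ?_ ?_
    · intro N _ _ _ _ _
      exact hzero _ (ModuleCat.isZero_of_subsingleton _)
    · intro N _ _ _ p e hN
      have hp : p ∈ Module.support R N := by
        rw [e.support_eq, Module.mem_support_iff_of_finite, Ideal.annihilator_quotient]
      have hp' : p = IsLocalRing.closedPoint R := hN hp
      subst hp'
      exact hres _ e.toModuleIso
    · intro N₁ _ _ _ N₂ _ _ _ N₃ _ _ _ f g hf hg hfg h₁ h₃ hN₂
      let S : ShortComplex (ModuleCat.{u} R) :=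
        ShortComplex.mk (ModuleCat.ofHom f) (ModuleCat.ofHom g) (by
          ext x
          exact hfg.apply_apply_eq_zero x)
      have hS : S.ShortExact := ModuleCat.shortComplex_shortExact _ hfg hf hg
      have f₂ : finSupp R S.X₂ := ⟨(inferInstance : Module.Finite R N₂), hN₂⟩
      have f₁ : finSupp R S.X₁ := finSupp_of_injective S.f hf f₂
      have f₃ : finSupp R S.X₃ := finSupp_of_surjective S.g hg f₂
      exact hext S hS f₁ f₂ f₃ (h₁ f₁.2) (h₃ f₃.2)
  exact key hM.2

end K233.FinSupp
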