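import Groth.Agent.Cohder.K0Transfer
import Groth.Agent.FormalA.PullbackQC
import Groth.Agent.PerfA.CohSerre

/-!
# `K₀` of coherent modules along an isomorphism of schemes
-/

set_option autoImplicit false
universe u
open CategoryTheory CategoryTheory.Limits AlgebraicGeometry

namespace K233.IsoTransfer

open Groth.Agent

variable {X Y : Scheme.{u}} (c : X ⟶ Y) [IsIso c]

/-- Pullback along an isomorphism is an equivalence. -/
noncomputable def pullEquiv : Y.Modules ≌ X.Modules :=
  CategoryTheory.Equivalence.mk (Scheme.Modules.pullback c) (Scheme.Modules.pullback (inv c))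
    ((Scheme.Modules.pullbackId Y).symm ≪≫ Scheme.Modules.pullbackCongr (IsIso.inv_hom_id c).symm ≪≫
      (Scheme.Modules.pullbackComp (inv c) c).symm)
    (Scheme.Modules.pullbackComp c (inv c) ≪≫ Scheme.Modules.pullbackCongr (IsIso.hom_inv_id c) ≪≫
      Scheme.Modules.pullbackId X)

theorem isEquivalence_pullback : (Scheme.Modules.pullback c).IsEquivalence :=
  inferInstanceAs (pullEquiv c).functor.IsEquivalence

theorem nonempty_pull_pull_inv (M : X.Modules) :
    Nonempty ((Scheme.Modules.pullback c).obj ((Scheme.Modules.pullback (inv c)).obj M) ≅ M) :=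
  ⟨(pullEquiv c).counitIso.app M⟩

omit [IsIso c] in
/-- Isomorphic coherent modules have the same class. -/
theorem clCoh_iso {M N : X.Modules} (e : M ≅ N) (h : Coh.IsCoh M) :
    KZero.clSub (fun M : X.Modules => Coh.IsCoh M) M =
      KZero.clSub (fun M : X.Modules => Coh.IsCoh M) N :=
  Cohder.K0Transfer.clSub_of_iso ⟨_, isZero_zero _, PerfA.CohSerre.isCoh_of_isZero (isZero_zero _)⟩
    e h (PerfA.CohSerre.isCoh_of_iso e h)

theorem exists_equiv_coh [IsLocallyNoetherian X] [IsLocallyNoetherian Y] :
    ∃ φ : KZero.K0sub (fun M : Y.Modules => Coh.IsCoh M) ≃+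
        KZero.K0sub (fun M : X.Modules => Coh.IsCoh M),
      ∀ M : Y.Modules, Coh.IsCoh M →
        φ (KZero.clSub (fun M : Y.Modules => Coh.IsCoh M) M) =
          KZero.clSub (fun M : X.Modules => Coh.IsCoh M) ((Scheme.Modules.pullback c).obj M) := by
  have := isEquivalence_pullback c
  exact Cohder.K0Transfer.exists_equiv (Scheme.Modules.pullback c) _ _
    ⟨_, isZero_zero _, PerfA.CohSerre.isCoh_of_isZero (isZero_zero _)⟩
    (fun M hM => FormalA.PullbackQC.isCoh_pullback c M hM)
    (fun M hM => ⟨(Scheme.Modules.pullback (inv c)).obj M,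
      FormalA.PullbackQC.isCoh_pullback (inv c) M hM, nonempty_pull_pull_inv c M⟩)

end K233.IsoTransfer
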