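import Groth.Agent.S3194
import Mathlib.RingTheory.Length
import Mathlib.RingTheory.Ideal.Height
import Mathlib.RingTheory.HopkinsLevitzki
import Mathlib.RingTheory.SimpleModule.Basic
import Mathlib.Algebra.Module.LocalizedModule.Exact
import Mathlib.RingTheory.Localization.Finiteness
import Mathlib.RingTheory.KrullDimension.Zero
import Mathlib.RingTheory.Localization.Submodule

/-!
The length at a minimal prime as a homomorphism on `K₀` of finite modules.
-/

set_option autoImplicit false
universe u
open CategoryTheory

namespace K233.MinLen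

variable {A : Type u} [CommRing A]

/-- The localization of a Noetherian ring at a minimal prime is Artinian. -/
theorem isArtinianRing_localization [IsNoetherianRing A] (p : Ideal A) [p.IsPrime]
    (hp : p ∈ minimalPrimes A) : IsArtinianRing (Localization.AtPrime p) := by
  have : IsNoetherianRing (Localization.AtPrime p) :=
    IsLocalization.isNoetherianRing p.primeCompl _ inferInstance
  rw [isArtinianRing_iff_krullDimLE_zero, ringKrullDimZero_iff_ringKrullDim_eq_zero,
    IsLocalization.AtPrime.ringKrullDim_eq_height p (Localization.AtPrime p),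
    Ideal.height_eq_zero_iff.2 hp]
  rfl

/-- The length at a prime. -/
noncomputable abbrev lenAt (p : Ideal A) [p.IsPrime] (M : Type u) [AddCommGroup M] [Module A M] : ℕ∞ :=
  Module.length (Localization.AtPrime p) (LocalizedModule p.primeCompl M)

theorem lenAt_exact (p : Ideal A) [p.IsPrime] {N₁ N₂ N₃ : Type u} [AddCommGroup N₁] [Module A N₁]
    [AddCommGroup N₂] [Module A N₂] [AddCommGroup N₃] [Module A N₃]
    (f : N₁ →ₗ[A] N₂) (g : N₂ →ₗ[A] N₃) (hf : Function.Injective f) (hg : Function.Surjective g)
    (hfg : Function.Exact f g) : lenAt p N₂ = lenAt p N₁ + lenAt p N₃ :=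
  Module.length_eq_add_of_exact (LocalizedModule.map p.primeCompl f) (LocalizedModule.map p.primeCompl g)
    (LocalizedModule.map_injective p.primeCompl f hf) (LocalizedModule.map_surjective p.primeCompl g hg)
    (LocalizedModule.map_exact p.primeCompl f g hfg)

theorem lenAt_ne_top [IsNoetherianRing A] (p : Ideal A) [p.IsPrime] (hp : p ∈ minimalPrimes A)
    (M : Type u) [AddCommGroup M] [Module A M] [Module.Finite A M] : lenAt p M ≠ ⊤ := by
  have := isArtinianRing_localization p hp
  have : Module.Finite (Localization.AtPrime p) (LocalizedModule p.primeCompl M) := inferInstance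
  have : IsArtinian (Localization.AtPrime p) (LocalizedModule p.primeCompl M) := inferInstance
  exact Module.length_ne_top

theorem lenAt_quotient_eq_zero (p q : Ideal A) [q.IsPrime] (h : ¬ p ≤ q) : lenAt q (A ⧸ p) = 0 := by
  obtain ⟨x, hxp, hxq⟩ := Set.not_subset.1 h
  have : Subsingleton (LocalizedModule q.primeCompl (A ⧸ p)) := by
    rw [LocalizedModule.subsingleton_iff]
    intro m
    refine ⟨x, hxq, ?_⟩
    obtain ⟨a, rfl⟩ := Ideal.Quotient.mk_surjective m
    rw [← Ideal.Quotient.mk_eq_mk, ← Submodule.Quotient.mk_smul, Submodule.Quotient.mk_eq_zero]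
    exact Ideal.mul_mem_right _ _ hxp
  exact Module.length_eq_zero

theorem lenAt_quotient_self (p : Ideal A) [p.IsPrime] : lenAt p (A ⧸ p) = 1 := by
  rw [lenAt, Module.length_eq_one_iff, isSimpleModule_iff_toSpanSingleton_surjective]
  constructor
  · by_contra h
    rw [not_nontrivial_iff_subsingleton, LocalizedModule.subsingleton_iff] at h
    obtain ⟨u, hu, h⟩ := h (Ideal.Quotient.mk p 1)
    apply hu
    rw [← Ideal.Quotient.mk_eq_mk, ← Submodule.Quotient.mk_smul, Submodule.Quotient.mk_eq_zero] at h
    simpa using h
  · intro m hm n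
    induction m using LocalizedModule.induction_on with
    | _ a s =>
    induction n using LocalizedModule.induction_on with
    | _ b t =>
    obtain ⟨a', rfl⟩ := Ideal.Quotient.mk_surjective a
    obtain ⟨b', rfl⟩ := Ideal.Quotient.mk_surjective b
    have ha : a' ∈ p.primeCompl := by
      intro ha
      apply hm
      rw [Ideal.Quotient.eq_zero_iff_mem.2 ha, LocalizedModule.zero_mk]
    refine ⟨Localization.mk (b' * s) (⟨a', ha⟩ * t), ?_⟩
    rw [LinearMap.toSpanSingleton_apply, LocalizedModule.mk_smul_mk, LocalizedModule.mk_eq]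
    refine ⟨1, ?_⟩
    simp only [one_smul, Submonoid.smul_def, Submonoid.coe_mul]
    rw [← Ideal.Quotient.mk_eq_mk, ← Ideal.Quotient.mk_eq_mk, ← Submodule.Quotient.mk_smul,
      ← Submodule.Quotient.mk_smul, ← Submodule.Quotient.mk_smul]
    congr 1
    simp only [smul_eq_mul]
    ring


section

open Groth.Agent

/-- Finite modules. -/
abbrev fin (A : Type u) [CommRing A] : ObjectProperty (ModuleCat.{u} A) := fun M => Module.Finite A M

/-- The length at a minimal prime of a Noetherian ring, as a homomorphism on `K₀` of finite modules. -/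
theorem exists_lenHom [IsNoetherianRing A] (p : Ideal A) [p.IsPrime] (hp : p ∈ minimalPrimes A) :
    ∃ φ : KZero.K0sub (fin A) →+ ℤ, ∀ (M : Type u) [AddCommGroup M] [Module A M] [Module.Finite A M],
      φ (KZero.clSub (fin A) (ModuleCat.of A M)) = ((lenAt p M).toNat : ℤ) := by
  refine ⟨QuotientAddGroup.lift _ (FreeAbelianGroup.lift (fun M => ((lenAt p M.1).toNat : ℤ))) ?_, ?_⟩
  · unfold KZero.relSub
    rw [AddSubgroup.closure_le]
    rintro x ⟨S, h₁, h₂, h₃, hS, rfl⟩
    simp only [SetLike.mem_coe, AddMonoidHom.mem_ker, map_sub, FreeAbelianGroup.lift_apply_of]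
    have hex := (ShortComplex.ShortExact.moduleCat_exact_iff_function_exact S).1 hS.exact
    have hinj := hS.moduleCat_injective_f
    have hsurj := hS.moduleCat_surjective_g
    have key := lenAt_exact p S.f.hom S.g.hom hinj hsurj hex
    have t₁ := @lenAt_ne_top _ _ _ p _ hp S.X₁ _ _ h₁
    have t₃ := @lenAt_ne_top _ _ _ p _ hp S.X₃ _ _ h₃
    rw [key, ENat.toNat_add t₁ t₃]
    push_cast
    ring
  · intro M _ _ _
    have : KZero.clSub (fin A) (ModuleCat.of A M) = QuotientAddGroup.mk (FreeAbelianGroup.of
        ⟨ModuleCat.of A M, (inferInstance : Module.Finite A M)⟩) :=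
      S3194.clSub_eq (ModuleCat.of A M) (inferInstance : Module.Finite A M)
    rw [this]
    change FreeAbelianGroup.lift _ (FreeAbelianGroup.of _) = _
    rw [FreeAbelianGroup.lift_apply_of]

end

end K233.MinLen
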