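import Groth.Agent.KZero.K233.MinLen

/-!
`K₀` of finite modules over a Noetherian ring with two elements `x`, `y`, `xy = 0`, such that `A/(x)` and `A/(y)` are
principal ideal domains and neither element divides the other.
-/

set_option autoImplicit false
universe u
open CategoryTheory

namespace K233.Node

open Groth.Agent K233.MinLen

variable {A : Type u} [CommRing A]

/-- The class of a cyclic quotient by a prime containing `x`, when `A/(x)` is a principal ideal domain. -/
theorem clSub_quotient_mem (x : A) [IsDomain (A ⧸ Ideal.span {x})]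
    [IsPrincipalIdealRing (A ⧸ Ideal.span {x})] (p : Ideal A) (hx : x ∈ p)
    (R : AddSubgroup (KZero.K0sub (fin A)))
    (hR : KZero.clSub (fin A) (ModuleCat.of A (A ⧸ Ideal.span {x})) ∈ R) :
    KZero.clSub (fin A) (ModuleCat.of A (A ⧸ p)) ∈ R := by
  let I := Ideal.span {x}
  have hI : I ≤ p := (Ideal.span_singleton_le_iff_mem p).2 hx
  obtain ⟨a, ha⟩ := (IsPrincipalIdealRing.principal (p.map (Ideal.Quotient.mk I)) : _)
  obtain ⟨a', rfl⟩ := Ideal.Quotient.mk_surjective a
  have ha' : p = Ideal.span {a'} ⊔ I := by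
    have h1 : p = (p.map (Ideal.Quotient.mk I)).comap (Ideal.Quotient.mk I) := by
      rw [Ideal.comap_map_of_surjective _ Ideal.Quotient.mk_surjective, ← RingHom.ker_eq_comap_bot,
        Ideal.mk_ker, sup_eq_left.2 hI]
    have h2 : (p.map (Ideal.Quotient.mk I)) = (Ideal.span {a'}).map (Ideal.Quotient.mk I) := by
      rw [Ideal.map_span, Set.image_singleton]
      exact ha
    rw [h1, h2, Ideal.comap_map_of_surjective _ Ideal.Quotient.mk_surjective, ← RingHom.ker_eq_comap_bot,
      Ideal.mk_ker]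
  by_cases h0 : a' ∈ I
  · have : p = I := by
      rw [ha', sup_eq_right]
      exact (Ideal.span_singleton_le_iff_mem I).2 h0
    rw [this]
    exact hR
  · -- `0 → A/I → A/I → A/p → 0`
    let f : (A ⧸ I) →ₗ[A] (A ⧸ I) := a' • LinearMap.id
    let g : (A ⧸ I) →ₗ[A] (A ⧸ p) := Submodule.factor hI
    have hf : Function.Injective f := by
      rw [injective_iff_map_eq_zero]
      intro m hm
      have h1 : Ideal.Quotient.mk I a' * m = 0 := hm
      rcases mul_eq_zero.1 h1 with h2 | h2
      · exact absurd (Ideal.Quotient.eq_zero_iff_mem.1 h2) h0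
      · exact h2
    have hg : Function.Surjective g := Submodule.factor_surjective hI
    have hfg : Function.Exact f g := by
      intro m
      obtain ⟨b, rfl⟩ := Ideal.Quotient.mk_surjective m
      have hgb : g (Ideal.Quotient.mk I b) = Ideal.Quotient.mk p b := rfl
      rw [hgb, Ideal.Quotient.eq_zero_iff_mem, ha', Ideal.mem_span_singleton_sup]
      constructor
      · rintro ⟨c, d, hd, rfl⟩
        refine ⟨Ideal.Quotient.mk I c, ?_⟩
        change a' • Ideal.Quotient.mk I c = _
        rw [map_add, Ideal.Quotient.eq_zero_iff_mem.2 hd, add_zero, map_mul, mul_comm]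
        rfl
      · rintro ⟨c, hc⟩
        obtain ⟨c, rfl⟩ := Ideal.Quotient.mk_surjective c
        change Ideal.Quotient.mk I a' * Ideal.Quotient.mk I c = _ at hc
        rw [← map_mul, Ideal.Quotient.eq] at hc
        refine ⟨c, b - c * a', ?_, by ring⟩
        have : b - c * a' = -(a' * c - b) := by ring
        rw [this]
        exact I.neg_mem hc
    have := S3194.clSub_exact f g hf hg hfg
    have h3 : KZero.clSub (fin A) (ModuleCat.of A (A ⧸ p)) = 0 := by
      simpa using this
    rw [h3]
    exact R.zero_mem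

/-- The basis theorem. -/
theorem bijective [IsNoetherianRing A] (x y : A) (hxy : x * y = 0) [IsDomain (A ⧸ Ideal.span {x})]
    [IsPrincipalIdealRing (A ⧸ Ideal.span {x})] [IsDomain (A ⧸ Ideal.span {y})]
    [IsPrincipalIdealRing (A ⧸ Ideal.span {y})] (hx : x ∉ Ideal.span {y}) (hy : y ∉ Ideal.span {x}) :
    Function.Bijective (fun p : ℤ × ℤ =>
      p.1 • KZero.clSub (fin A) (ModuleCat.of A (A ⧸ Ideal.span {x})) +
        p.2 • KZero.clSub (fin A) (ModuleCat.of A (A ⧸ Ideal.span {y}))) := by
  have hpx : (Ideal.span {x}).IsPrime := (Ideal.Quotient.isDomain_iff_prime _).1 inferInstance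
  have hpy : (Ideal.span {y}).IsPrime := (Ideal.Quotient.isDomain_iff_prime _).1 inferInstance
  have hmx : Ideal.span {x} ∈ minimalPrimes A := by
    refine ⟨⟨hpx, bot_le⟩, ?_⟩
    rintro q ⟨hq, -⟩ hle
    rw [Ideal.span_singleton_le_iff_mem]
    rcases hq.mem_or_mem (hxy ▸ q.zero_mem : x * y ∈ q) with h | h
    · exact h
    · exact absurd (hle h) hy
  have hmy : Ideal.span {y} ∈ minimalPrimes A := by
    refine ⟨⟨hpy, bot_le⟩, ?_⟩
    rintro q ⟨hq, -⟩ hle
    rw [Ideal.span_singleton_le_iff_mem]
    rcases hq.mem_or_mem (hxy ▸ q.zero_mem : x * y ∈ q) with h | h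
    · exact absurd (hle h) hx
    · exact h
  obtain ⟨φ, hφ⟩ := exists_lenHom (Ideal.span {x}) hmx
  obtain ⟨ψ, hψ⟩ := exists_lenHom (Ideal.span {y}) hmy
  have φx : φ (KZero.clSub (fin A) (ModuleCat.of A (A ⧸ Ideal.span {x}))) = 1 := by
    rw [hφ, lenAt_quotient_self]; rfl
  have φy : φ (KZero.clSub (fin A) (ModuleCat.of A (A ⧸ Ideal.span {y}))) = 0 := by
    rw [hφ, lenAt_quotient_eq_zero]
    · rfl
    · rwa [Ideal.span_singleton_le_iff_mem]
  have ψx : ψ (KZero.clSub (fin A) (ModuleCat.of A (A ⧸ Ideal.span {x}))) = 0 := by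
    rw [hψ, lenAt_quotient_eq_zero]
    · rfl
    · rwa [Ideal.span_singleton_le_iff_mem]
  have ψy : ψ (KZero.clSub (fin A) (ModuleCat.of A (A ⧸ Ideal.span {y}))) = 1 := by
    rw [hψ, lenAt_quotient_self]; rfl
  constructor
  · rintro ⟨a, b⟩ ⟨c, d⟩ h
    have h1 := congrArg φ h
    have h2 := congrArg ψ h
    simp only [map_add, map_zsmul, φx, φy, ψx, ψy] at h1 h2
    simp at h1 h2
    rw [h1, h2]
  · set cx := KZero.clSub (fin A) (ModuleCat.of A (A ⧸ Ideal.span {x}))
    set cy := KZero.clSub (fin A) (ModuleCat.of A (A ⧸ Ideal.span {y}))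
    let R : AddSubgroup (KZero.K0sub (fin A)) :=
      ((zmultiplesHom _ cx).coprod (zmultiplesHom _ cy)).range
    have hRx : cx ∈ R := ⟨(1, 0), by simp⟩
    have hRy : cy ∈ R := ⟨(0, 1), by simp⟩
    intro z
    suffices hz : z ∈ R by
      obtain ⟨⟨a, b⟩, rfl⟩ := hz
      exact ⟨(a, b), by simp⟩
    have key : ∀ (M : ModuleCat.{u} A) (hM : Module.Finite A M), KZero.clSub (fin A) M ∈ R := by
      intro M hM
      refine IsNoetherianRing.induction_on_isQuotientEquivQuotientPrime (A := A) (M := M) hM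
        (motive := fun N _ _ _ => KZero.clSub (fin A) (ModuleCat.of A N) ∈ R)
        ?_ ?_ ?_
      · intro N _ _ _ _
        rw [S3194.clSub_subsingleton]
        exact R.zero_mem
      · intro N _ _ _ p e
        rw [S3194.clSub_equiv e.symm]
        rcases p.2.mem_or_mem (hxy ▸ p.1.zero_mem : x * y ∈ p.1) with h | h
        · exact clSub_quotient_mem x p.1 h R hRx
        · exact clSub_quotient_mem y p.1 h R hRy
      · intro N₁ _ _ _ N₂ _ _ _ N₃ _ _ _ f g hf hg hfg h₁ h₃
        rw [S3194.clSub_exact f g hf hg hfg]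
        exact R.add_mem h₁ h₃
    obtain ⟨w, rfl⟩ := QuotientAddGroup.mk_surjective z
    induction w using FreeAbelianGroup.induction_on with
    | zero => exact R.zero_mem
    | of M =>
      have := key M.1 M.2
      rwa [S3194.clSub_eq _ M.2] at this
    | neg M h => exact R.neg_mem h
    | add a b ha hb => exact R.add_mem ha hb

end K233.Node
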