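import Groth.Agent.S1028
import Groth.Agent.S1052
import Groth.Agent.S1111
import Groth.Agent.S1109

/-!
`K⁰(X) → K₀(X)` is bijective for a Noetherian scheme with regular local rings and affine diagonal.
-/

set_option autoImplicit false
universe u
open CategoryTheory CategoryTheory.Limits AlgebraicGeometry
attribute [local instance] HasDerivedCategory.standard

namespace K233.VbCoh

open Groth.Agent

/-- `K⁰(X) ≅ K₀(X)` for `X` Noetherian with regular local rings and the resolution property. -/
theorem exists_equiv_of_resolution (X : Scheme.{u}) [IsNoetherian X]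
    (hreg : ∀ x : X, IsRegularLocalRing (X.presheaf.stalk x)) (hres : PerfAux.HasResolutionProperty X) :
    ∃ α : KZero.K0sub (fun M : X.Modules => FlatMod.IsFinLocFree M) ≃+
        KZero.K0sub (fun M : X.Modules => Coh.IsCoh M),
      ∀ E : X.Modules, FlatMod.IsFinLocFree E →
        α (KZero.clSub (fun M : X.Modules => FlatMod.IsFinLocFree M) E) =
          KZero.clSub (fun M : X.Modules => Coh.IsCoh M) E := by
  obtain ⟨φ₁, h₁⟩ := S1028.result X hres
  obtain ⟨φ₂, h₂⟩ := S1111.result X hreg
  obtain ⟨φ₃, h₃⟩ := S1052.result X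
  refine ⟨(φ₁.trans φ₂).trans φ₃.symm, fun E hE => ?_⟩
  have hE' : Coh.IsCoh E := PerfA.CohSerre.isCoh_of_isFinLocFree hE
  have hP : DCoh.IsPerfect (DCoh.inD X E) := PerfA.PerfLocal.isPerfect_inD_of_isFinLocFree hE
  change φ₃.symm (φ₂ (φ₁ (KZero.clSub (fun M : X.Modules => FlatMod.IsFinLocFree M) E))) = _
  rw [h₁ E hE, h₂ _ hP, ← h₃ E hE', AddEquiv.symm_apply_apply]

/-- `K⁰(X) ≅ K₀(X)` for `X` Noetherian with regular local rings and affine diagonal. -/
theorem exists_equiv (X : Scheme.{u}) [IsNoetherian X]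
    (hreg : ∀ x : X, IsRegularLocalRing (X.presheaf.stalk x))
    (hdiag : ∀ U V : X.Opens, IsAffineOpen U → IsAffineOpen V → IsAffineOpen (U ⊓ V)) :
    ∃ α : KZero.K0sub (fun M : X.Modules => FlatMod.IsFinLocFree M) ≃+
        KZero.K0sub (fun M : X.Modules => Coh.IsCoh M),
      ∀ E : X.Modules, FlatMod.IsFinLocFree E →
        α (KZero.clSub (fun M : X.Modules => FlatMod.IsFinLocFree M) E) =
          KZero.clSub (fun M : X.Modules => Coh.IsCoh M) E :=
  exists_equiv_of_resolution X hreg (S1109.result X hreg hdiag)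

end K233.VbCoh
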