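import Groth.Agent.S3197
import Groth.Agent.S3194
import Groth.Agent.S1029
import Groth.Agent.S1535
import Groth.Agent.Krr.H465.ProjBase
import Groth.Agent.PerfB.FlatPull
import Groth.Agent.Ega3B.ProjProper
import Groth.Agent.Sga5.ProjSmooth
import Groth.Agent.KZero.K233.VbCoh

/-!
# `K(P^n_k)` is free on `O(d), …, O(d+n)`

`bijective_coh n k d`: the classes of `O(d + i)`, `0 ≤ i ≤ n`, are a basis of `K₀(Coh P^n_k)`
(`P^n_k` as `CohB1.ProjSpaceOver n (Spec k)`).
-/

set_option autoImplicit false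
universe v u
open CategoryTheory CategoryTheory.Limits AlgebraicGeometry

namespace K233.ProjFree

open Groth.Agent Groth.Agent.Sga67 Groth.Agent.Sga67.TwistOver

/-- Isomorphic modules have the same class in `K^•`. -/
theorem clVb_iso {X : Scheme.{u}} {M N : X.Modules} (e : M ≅ N) (h : FlatMod.IsFinLocFree M) :
    KZero.clSub (fun M : X.Modules => FlatMod.IsFinLocFree M) M =
      KZero.clSub (fun M : X.Modules => FlatMod.IsFinLocFree M) N :=
  K0Basic.clSub_iso' e h (PerfA.PerfLocal.isFinLocFree_of_iso e h) (isZero_zero _)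
    (PerfA.PerfLocal.isFinLocFree_of_isZero (isZero_zero _))

theorem mapSub_clSub' {A : Type u} [Category.{v} A] [Abelian A] {B : Type u} [Category.{v} B] [Abelian B]
    (F : A ⥤ B) [F.Additive] [PreservesFiniteLimits F] [PreservesFiniteColimits F]
    (P : ObjectProperty A) (Q : ObjectProperty B) (h : ∀ X, P X → Q (F.obj X)) {X : A} (hX : P X) :
    SGA6.mapSub F P Q h (KZero.clSub P X) = KZero.clSub Q (F.obj X) := by
  rw [K0Basic.clSub_of_prop hX, K0Basic.clSub_of_prop (h X hX)]
  change QuotientAddGroup.mk (FreeAbelianGroup.map (SGA6.objMap F P Q h)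
    (FreeAbelianGroup.of ⟨X, hX⟩)) = _
  rw [FreeAbelianGroup.map_of_apply]
  rfl

section spec

variable (k : Type u) [Field k]

/-- `K^•(Spec k) = ℤ·[O]`. -/
theorem bijective_spec : Function.Bijective (fun a : ℤ => a •
    KZero.clSub (fun M : (Spec (CommRingCat.of k)).Modules => FlatMod.IsFinLocFree M)
      (Coh.structureModule (Spec (CommRingCat.of k)))) := by
  obtain ⟨φ, hφ⟩ := S1029.exists_equiv_spec (CommRingCat.of k)
  have hP : (fun M : ModuleCat.{u} k => Module.Finite k M ∧ Module.Projective k M) =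
      (fun M : ModuleCat.{u} k => Module.Finite k M) := by
    funext M
    exact propext ⟨fun h => h.1, fun h => ⟨h, inferInstance⟩⟩
  have h1 := S3194.result k
  rw [← hP] at h1
  have hk : Module.Finite k k ∧ Module.Projective k k := ⟨inferInstance, inferInstance⟩
  have h2 : φ (KZero.clSub (fun M : ModuleCat.{u} k => Module.Finite k M ∧ Module.Projective k M)
      (ModuleCat.of k k)) =
      KZero.clSub (fun M : (Spec (CommRingCat.of k)).Modules => FlatMod.IsFinLocFree M)
        (Coh.structureModule (Spec (CommRingCat.of k))) := by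
    refine (hφ (ModuleCat.of k k) hk).trans (clVb_iso ?_ ?_).symm
    · exact (tildeSelf (R := CommRingCat.of k)).symm
    · exact Dcoh.ResFree.isFinLocFree_unit
  have h3 : (fun a : ℤ => a •
    KZero.clSub (fun M : (Spec (CommRingCat.of k)).Modules => FlatMod.IsFinLocFree M)
      (Coh.structureModule (Spec (CommRingCat.of k)))) = φ ∘ (fun a : ℤ => a •
      KZero.clSub (fun M : ModuleCat.{u} k => Module.Finite k M ∧ Module.Projective k M)
        (ModuleCat.of k k)) := by
    funext a
    change _ = φ (a • _)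
    rw [map_zsmul, h2]
  rw [h3]
  exact φ.bijective.comp h1

end spec

section twist

variable (n : ℕ) (S : Scheme.{u})

/-- Twisting by `O(d)` on `K^•(P^n_S)`. -/
theorem exists_twist (d : ℤ) : ∃ φ :
    KZero.K0sub (fun M : (CohB1.ProjSpaceOver n S).Modules => FlatMod.IsFinLocFree M) ≃+
      KZero.K0sub (fun M : (CohB1.ProjSpaceOver n S).Modules => FlatMod.IsFinLocFree M),
    ∀ M : (CohB1.ProjSpaceOver n S).Modules, FlatMod.IsFinLocFree M →
      φ (KZero.clSub (fun M : (CohB1.ProjSpaceOver n S).Modules => FlatMod.IsFinLocFree M) M) =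
        KZero.clSub (fun M : (CohB1.ProjSpaceOver n S).Modules => FlatMod.IsFinLocFree M)
          ((tw n S d).obj M) := by
  have h1 : ∀ i : ℤ, PreservesFiniteLimits (tw n S i) := fun i => preservesFiniteLimits_tw n S i
  have h2 : ∀ i : ℤ, PreservesFiniteColimits (tw n S i) := fun i => preservesFiniteColimits_tw n S i
  let P : ObjectProperty (CohB1.ProjSpaceOver n S).Modules := fun M => FlatMod.IsFinLocFree M
  let f : ℤ → (KZero.K0sub P →+ KZero.K0sub P) := fun i =>
    SGA6.mapSub (tw n S i) P P (fun M hM => isFinLocFree_tw n S i M hM)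
  have hf : ∀ (i : ℤ) (M : (CohB1.ProjSpaceOver n S).Modules), P M →
      f i (KZero.clSub P M) = KZero.clSub P ((tw n S i).obj M) := fun i M hM =>
    mapSub_clSub' _ _ _ _ hM
  have key : ∀ i j : ℤ, i + j = 0 → (f i).comp (f j) = AddMonoidHom.id _ := by
    intro i j hij
    refine K0Basic.hom_ext_sub fun M hM => ?_
    rw [AddMonoidHom.comp_apply, hf j M hM, hf i _ (isFinLocFree_tw n S j M hM)]
    obtain ⟨e⟩ := nonempty_tw_tw n S i j M
    obtain ⟨e'⟩ := nonempty_tw_zero n S M
    rw [hij] at e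
    exact clVb_iso (e ≪≫ e') (isFinLocFree_tw n S i _ (isFinLocFree_tw n S j M hM))
  exact ⟨AddMonoidHom.toAddEquiv (f d) (f (-d)) (key _ _ (by ring)) (key _ _ (by ring)),
    fun M hM => hf d M hM⟩

/-- `O(d) ⊗ (O(i) ⊗ p^* O) ≅ O(d+i)`. -/
theorem nonempty_tw_tw_structure (d i : ℤ) : Nonempty ((tw n S d).obj ((tw n S i).obj
    ((Scheme.Modules.pullback (CohB1.ProjSpaceOver.toBase n S)).obj (Coh.structureModule S))) ≅
      Twist.twistOver n S (d + i)) := by
  obtain ⟨e⟩ := nonempty_tw_tw n S d i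
    ((Scheme.Modules.pullback (CohB1.ProjSpaceOver.toBase n S)).obj (Coh.structureModule S))
  obtain ⟨e'⟩ := Ega3B.PullTensor.nonempty_pullUnitIso (CohB1.ProjSpaceOver.toBase n S)
  exact ⟨e ≪≫ (tw n S (d + i)).mapIso e' ≪≫ Ega2.Tens.runit _⟩

end twist

section main

variable (k : Type u) [Field k] (n : ℕ)

local notation "Sk" => Spec (CommRingCat.of k)

/-- `K^•(P^n_k)` is free on `O(d), …, O(d+n)`. -/
theorem bijective_vb (d : ℤ) : Function.Bijective (fun a : Fin (n + 1) → ℤ =>
    ∑ i : Fin (n + 1), a i • KZero.clSub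
      (fun M : (CohB1.ProjSpaceOver n Sk).Modules => FlatMod.IsFinLocFree M)
        (Twist.twistOver n Sk (d + (i : ℕ)))) := by
  have h0 : Flat (CohB1.ProjSpaceOver.toBase n Sk) := Krr.H465.ProjBase.flat_pr n _
  have h1 : ∀ i : ℕ, PreservesFiniteLimits (tw n Sk (i : ℤ)) :=
    fun i => preservesFiniteLimits_tw n _ i
  have h2 : ∀ i : ℕ, PreservesFiniteColimits (tw n Sk (i : ℤ)) :=
    fun i => preservesFiniteColimits_tw n _ i
  have h3 : PreservesFiniteLimits (Scheme.Modules.pullback (CohB1.ProjSpaceOver.toBase n Sk)) :=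
    PerfB.FlatPull.preservesFiniteLimits_pullback _
  have hbij := S3197.result Sk n
    (fun M hM => PerfB.FlatPull.isFinLocFree_pullback _ hM)
    (fun i M hM => isFinLocFree_tw n Sk i M hM)
  have hO : FlatMod.IsFinLocFree (Coh.structureModule Sk) := Dcoh.ResFree.isFinLocFree_unit
  obtain ⟨φ, hφ⟩ := exists_twist n Sk d
  have h4 : Function.Bijective (fun (a : Fin (n + 1) → ℤ) (i : Fin (n + 1)) => a i •
      KZero.clSub (fun M : (Sk).Modules => FlatMod.IsFinLocFree M) (Coh.structureModule Sk)) :=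
    Function.Bijective.piMap fun _ => bijective_spec k
  have h5 := φ.bijective.comp (hbij.comp h4)
  convert h5 using 1
  funext a
  dsimp only [Function.comp_apply]
  rw [map_sum]
  refine Finset.sum_congr rfl fun i _ => ?_
  rw [map_zsmul, map_zsmul, map_zsmul, mapSub_clSub' _ _ _ _ hO,
    mapSub_clSub' _ _ _ _ (PerfB.FlatPull.isFinLocFree_pullback _ hO),
    hφ _ (isFinLocFree_tw n Sk i _ (PerfB.FlatPull.isFinLocFree_pullback _ hO))]
  obtain ⟨e⟩ := nonempty_tw_tw_structure n Sk d i
  rw [clVb_iso e (isFinLocFree_tw n Sk d _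
    (isFinLocFree_tw n Sk i _ (PerfB.FlatPull.isFinLocFree_pullback _ hO)))]

/-- `K₀(Coh P^n_k)` is free on `O(d), …, O(d+n)`. -/
theorem bijective_coh (d : ℤ) : Function.Bijective (fun a : Fin (n + 1) → ℤ =>
    ∑ i : Fin (n + 1), a i • KZero.clSub
      (fun M : (CohB1.ProjSpaceOver n Sk).Modules => Coh.IsCoh M)
        (Twist.twistOver n Sk (d + (i : ℕ)))) := by
  have hsm : Smooth (CohB1.ProjSpaceOver.toBase n Sk) := by
    have h1 : Smooth (CohB1.ProjSpace.toSpec n (ULift.{u} ℤ)) := by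
      have := Sga5.ProjSmooth.smooth_toSpec n (ULift.{u} ℤ)
      exact SmoothOfRelativeDimension.smooth n _
    exact MorphismProperty.of_isPullback (P := @Smooth) (CohqB.ProjBC.isPullback_fstZ n Sk) h1
  have hprop : IsProper (CohB1.ProjSpaceOver.toBase n Sk) := Ega3B.ProjProper.isProper_toBase n Sk
  let _ : (CohB1.ProjSpaceOver n Sk).Over Sk := ⟨CohB1.ProjSpaceOver.toBase n Sk⟩
  have hsm' : Smooth (CohB1.ProjSpaceOver n Sk ↘ Sk) := hsm
  have hXn : IsLocallyNoetherian (CohB1.ProjSpaceOver n Sk) :=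
    LocallyOfFiniteType.isLocallyNoetherian (CohB1.ProjSpaceOver.toBase n Sk)
  have hXc : CompactSpace (CohB1.ProjSpaceOver n Sk) :=
    QuasiCompact.compactSpace_of_compactSpace (CohB1.ProjSpaceOver.toBase n Sk)
  have hXN : IsNoetherian (CohB1.ProjSpaceOver n Sk) := { }
  have hXs : (CohB1.ProjSpaceOver n Sk).IsSeparated :=
    ⟨by rw [← terminal.comp_from (CohB1.ProjSpaceOver.toBase n Sk)]; infer_instance⟩
  obtain ⟨α, hα⟩ := K233.VbCoh.exists_equiv (CohB1.ProjSpaceOver n Sk)
    (S1535.result k (CohB1.ProjSpaceOver n Sk)) (fun U V hU hV => hU.inf hV)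
  have h := α.bijective.comp (bijective_vb k n d)
  convert h using 1
  funext a
  dsimp only [Function.comp_apply]
  rw [map_sum]
  refine Finset.sum_congr rfl fun i _ => ?_
  rw [map_zsmul, hα _ (Krr.H465.ProjBase.isFinLocFree_twistOver n Sk _)]

end main

end K233.ProjFree
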